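import Cfsg.Prelude.Def_Blocks
import Cfsg.Prelude.Def_BlockLocal
import Cfsg.Agent.Blocks.Basic
import Cfsg.Agent.Blocks.ClassSum
import Cfsg.Agent.Characters.Core
set_option linter.all false

/-!
# Transport of characters and blocks along isomorphisms; transitivity of block induction

* `tr e ξ`: the irreducible character `ξ ∘ e⁻¹` for an isomorphism `e`;
* `trB e b`: the set of the characters `tr e ξ`, `ξ ∈ b`; it is a block if `b` is, with the same
  coefficients, defect groups (`isDefectGroup_trB`), kernel (`mem_blockKer_trB`);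
* `induced_conj`: conjugating a block of a subgroup does not change the induced block;
* `induced_sub`: for `K' ≤ ↥H` and its copy `K ≤ G`, the induced central characters agree;
  `induced_trans`, `induced_of_trans`: transitivity of block induction.
-/

set_option autoImplicit false

open Cfsg

namespace Cfsg.Agent.H662

open Cfsg.Agent.Blocks.Basic (isDefectGroup_iff isSylowCentralizer_iff IsSylowCentralizer
  irr_isClassFunction isPBlock_nonempty)
open Cfsg.Agent.Blocks.Local
open scoped ComplexConjugate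

section Transport

variable {H H' : Type*} [Group H] [Group H']

/-- Transport of an irreducible character along an isomorphism. -/
def tr (e : H ≃* H') (ξ : IrrCharacter H) : IrrCharacter H' :=
  ⟨fun x => (ξ : H → ℂ) (e.symm x),
    Cfsg.Agent.Characters.Core.isIrr_comp e.symm.toMonoidHom e.symm.surjective ξ.2⟩

theorem tr_apply (e : H ≃* H') (ξ : IrrCharacter H) (x : H') :
    (tr e ξ : H' → ℂ) x = (ξ : H → ℂ) (e.symm x) := rfl

@[simp]
theorem tr_apply_map (e : H ≃* H') (ξ : IrrCharacter H) (x : H) :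
    (tr e ξ : H' → ℂ) (e x) = (ξ : H → ℂ) x := by
  rw [tr_apply, MulEquiv.symm_apply_apply]

@[simp]
theorem tr_apply_one (e : H ≃* H') (ξ : IrrCharacter H) :
    (tr e ξ : H' → ℂ) 1 = (ξ : H → ℂ) 1 := by
  rw [tr_apply, map_one]

@[simp]
theorem tr_symm_tr (e : H ≃* H') (ξ : IrrCharacter H) : tr e.symm (tr e ξ) = ξ := by
  apply Subtype.ext
  funext x
  rw [tr_apply, MulEquiv.symm_symm, tr_apply_map]

@[simp]
theorem tr_tr_symm (e : H ≃* H') (ξ : IrrCharacter H') : tr e (tr e.symm ξ) = ξ := by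
  apply Subtype.ext
  funext x
  rw [tr_apply, tr_apply, MulEquiv.symm_symm, MulEquiv.apply_symm_apply]

/-- Transport as a bijection. -/
def trEquiv (e : H ≃* H') : IrrCharacter H ≃ IrrCharacter H' where
  toFun := tr e
  invFun := tr e.symm
  left_inv := tr_symm_tr e
  right_inv := tr_tr_symm e

/-- Transport of a set of irreducible characters. -/
def trB (e : H ≃* H') (b : Set (IrrCharacter H)) : Set (IrrCharacter H') := {ξ | tr e.symm ξ ∈ b}

@[simp]
theorem mem_trB (e : H ≃* H') (b : Set (IrrCharacter H)) (ξ : IrrCharacter H') :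
    ξ ∈ trB e b ↔ tr e.symm ξ ∈ b := Iff.rfl

theorem tr_mem_trB (e : H ≃* H') (b : Set (IrrCharacter H)) (ξ : IrrCharacter H) :
    tr e ξ ∈ trB e b ↔ ξ ∈ b := by
  rw [mem_trB, tr_symm_tr]

@[simp]
theorem trB_symm_trB (e : H ≃* H') (b : Set (IrrCharacter H)) : trB e.symm (trB e b) = b := by
  ext ξ
  rw [mem_trB, mem_trB, MulEquiv.symm_symm, tr_symm_tr]

@[simp]
theorem trB_trB_symm (e : H ≃* H') (b : Set (IrrCharacter H')) : trB e (trB e.symm b) = b := by
  ext ξ
  rw [mem_trB, mem_trB, MulEquiv.symm_symm, tr_tr_symm]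

theorem isConj_map_iff (e : H ≃* H') (x y : H) : IsConj (e x) (e y) ↔ IsConj x y :=
  ⟨fun h => by simpa using e.symm.toMonoidHom.map_isConj h, fun h => e.toMonoidHom.map_isConj h⟩

theorem map_centralizer_singleton (e : H ≃* H') (x : H) :
    (Subgroup.centralizer ({x} : Set H)).map e.toMonoidHom = Subgroup.centralizer ({e x} : Set H') := by
  ext y
  rw [Subgroup.mem_map, Subgroup.mem_centralizer_singleton_iff]
  constructor
  · rintro ⟨z, hz, rfl⟩
    rw [Subgroup.mem_centralizer_singleton_iff] at hz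
    simp only [MulEquiv.toMonoidHom_eq_coe, MonoidHom.coe_coe]
    rw [← map_mul, hz, map_mul]
  · intro h
    refine ⟨e.symm y, ?_, by simp⟩
    rw [Subgroup.mem_centralizer_singleton_iff]
    apply e.injective
    rw [map_mul, map_mul, MulEquiv.apply_symm_apply, h]

theorem index_centralizer_map (e : H ≃* H') (x : H) :
    (Subgroup.centralizer ({e x} : Set H')).index = (Subgroup.centralizer ({x} : Set H)).index := by
  rw [← map_centralizer_singleton]
  exact Subgroup.index_map_equiv _ e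

theorem centralChar_tr (e : H ≃* H') (ξ : IrrCharacter H) (x : H) :
    centralChar (tr e ξ : H' → ℂ) (e x) = centralChar (ξ : H → ℂ) x := by
  rw [Cfsg.Agent.Blocks.Basic.centralChar_def, Cfsg.Agent.Blocks.Basic.centralChar_def,
    index_centralizer_map, tr_apply_map, tr_apply_one]

theorem sameBlock_tr {M : Ideal AlgInt} (e : H ≃* H') (ξ ψ : IrrCharacter H) :
    SameBlock M (tr e ξ : H' → ℂ) (tr e ψ : H' → ℂ) ↔ SameBlock M (ξ : H → ℂ) (ψ : H → ℂ) := by
  constructor
  · intro h x
    have := h (e x)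
    rwa [centralChar_tr, centralChar_tr] at this
  · intro h x
    have := h (e.symm x)
    rw [← centralChar_tr e ξ, ← centralChar_tr e ψ, MulEquiv.apply_symm_apply] at this
    exact this

theorem trB_blockOf {M : Ideal AlgInt} (e : H ≃* H') (ξ : IrrCharacter H) :
    trB e (blockOf M (ξ : H → ℂ)) = blockOf M (tr e ξ : H' → ℂ) := by
  ext ψ
  rw [mem_trB, Cfsg.Agent.Blocks.Basic.mem_blockOf, Cfsg.Agent.Blocks.Basic.mem_blockOf,
    ← sameBlock_tr e, tr_tr_symm]

theorem isPBlock_trB {M : Ideal AlgInt} (e : H ≃* H') {b : Set (IrrCharacter H)}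
    (hb : IsPBlock M b) : IsPBlock M (trB e b) := by
  obtain ⟨ξ, rfl⟩ := hb
  exact ⟨tr e ξ, trB_blockOf e ξ⟩

theorem isPBlock_trB_iff {M : Ideal AlgInt} (e : H ≃* H') {b : Set (IrrCharacter H)} :
    IsPBlock M (trB e b) ↔ IsPBlock M b :=
  ⟨fun h => by simpa using isPBlock_trB e.symm h, isPBlock_trB e⟩

theorem finsum_trB {A : Type*} [AddCommMonoid A] (e : H ≃* H') (b : Set (IrrCharacter H))
    (f : IrrCharacter H' → A) : ∑ᶠ ξ ∈ trB e b, f ξ = ∑ᶠ ξ ∈ b, f (tr e ξ) := by
  rw [← finsum_comp_equiv (trEquiv e)]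
  refine finsum_congr fun ξ => ?_
  have h : (trEquiv e ξ ∈ trB e b) = (ξ ∈ b) := propext (tr_mem_trB e b ξ)
  change ∑ᶠ (_ : trEquiv e ξ ∈ trB e b), f (tr e ξ) = _
  rw [h]

theorem blockCoeff_trB (e : H ≃* H') (b : Set (IrrCharacter H)) (x : H) :
    blockCoeff (trB e b) (e x) = blockCoeff b x := by
  rw [Cfsg.Agent.Blocks.Basic.blockCoeff_def, Cfsg.Agent.Blocks.Basic.blockCoeff_def,
    finsum_trB, Nat.card_congr e.symm.toEquiv]
  simp only [tr_apply_map, tr_apply_one]

theorem isDefectClass_trB {M : Ideal AlgInt} (e : H ≃* H') {b : Set (IrrCharacter H)} {x : H}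
    (h : IsDefectClass M b x) : IsDefectClass M (trB e b) (e x) := by
  refine ⟨?_, ?_, fun ξ hξ => ?_⟩
  · rw [blockCoeff_trB]; exact h.1
  · rw [blockCoeff_trB]; exact h.2.1
  · have h1 := h.2.2 _ hξ
    rwa [← centralChar_tr e, tr_tr_symm] at h1

theorem isDefectGroup_trB {M : Ideal AlgInt} {p : ℕ} (e : H ≃* H') {b : Set (IrrCharacter H)}
    {D : Subgroup H} (h : IsDefectGroup p M b D) :
    IsDefectGroup p M (trB e b) (D.map e.toMonoidHom) := by
  rw [isDefectGroup_iff] at h ⊢
  obtain ⟨g, hg, hD⟩ := h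
  refine ⟨e g, isDefectClass_trB e hg, ?_⟩
  rw [isSylowCentralizer_iff] at hD ⊢
  obtain ⟨h1, h2, h3⟩ := hD
  refine ⟨h1.map _, ?_, fun Q hQ hQC hDQ => ?_⟩
  · rw [← map_centralizer_singleton]
    exact Subgroup.map_mono h2
  · have hQe : (Q.map e.symm.toMonoidHom).map e.toMonoidHom = Q := by
      ext x
      simp only [Subgroup.mem_map, MulEquiv.toMonoidHom_eq_coe, MonoidHom.coe_coe,
        exists_exists_and_eq_and, MulEquiv.apply_symm_apply]
      simp
    have h4 := h3 (Q.map e.symm.toMonoidHom) (hQ.map _) ?_ ?_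
    · rw [← hQe, h4]
    · intro x hx
      obtain ⟨y, hy, rfl⟩ := Subgroup.mem_map.1 hx
      have hy' := hQC hy
      rw [Subgroup.mem_centralizer_singleton_iff] at hy' ⊢
      apply e.injective
      simpa using hy'
    · intro x hx
      refine Subgroup.mem_map.2 ⟨e x, hDQ (Subgroup.mem_map.2 ⟨x, hx, rfl⟩), by simp⟩

theorem mem_blockKer_trB (e : H ≃* H') (b : Set (IrrCharacter H)) (x : H) :
    e x ∈ blockKer (trB e b) ↔ x ∈ blockKer b := by
  constructor
  · intro h ξ hξ
    have := h (tr e ξ) ((tr_mem_trB e b ξ).2 hξ)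
    simpa using this
  · intro h ξ hξ
    have := h (tr e.symm ξ) hξ
    rw [tr_apply, tr_apply] at this
    simpa using this

end Transport

section Induced

variable {G : Type*} [Group G]

/-- Induced central characters and transport along a conjugation. -/
theorem inducedCentralChar_tr {K K' : Subgroup G} (e : K ≃* K')
    (he : ∀ x : K, IsConj (x : G) ((e x : K') : G)) (ξ : IrrCharacter K) (g : G) :
    inducedCentralChar K' (tr e ξ : K' → ℂ) g = inducedCentralChar K (ξ : K → ℂ) g := by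
  rw [Cfsg.Agent.Blocks.Basic.inducedCentralChar_def,
    Cfsg.Agent.Blocks.Basic.inducedCentralChar_def, ← finsum_comp_equiv e.toEquiv]
  refine finsum_congr fun x => ?_
  have h : (e.toEquiv x ∈ {h : K' | IsConj g (h : G)}) = (x ∈ {h : K | IsConj g (h : G)}) := by
    apply propext
    simp only [Set.mem_ofPred_eq, MulEquiv.toEquiv_eq_coe, EquivLike.coe_coe]
    exact ⟨fun h => h.trans (he x).symm, fun h => h.trans (he x)⟩
  rw [h]
  refine finsum_congr fun _ => ?_
  change (tr e ξ : K' → ℂ) (e x) / _ = _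
  rw [tr_apply_map, tr_apply_one]

/-- Conjugating a block of a subgroup does not change the induced block. -/
theorem induced_conj {M : Ideal AlgInt} {K K' : Subgroup G} (e : K ≃* K')
    (he : ∀ x : K, IsConj (x : G) ((e x : K') : G)) {b : Set (IrrCharacter K)}
    {B : Set (IrrCharacter G)} (h : IsInducedBlock M K b B) :
    IsInducedBlock M K' (trB e b) B := by
  refine ⟨isPBlock_trB e h.1, h.2.1, fun ξ hξ χ hχ g => ?_⟩
  have h1 := h.2.2 _ hξ χ hχ g
  rwa [← inducedCentralChar_tr e he, tr_tr_symm] at h1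

theorem inducedBlock_unique {M : Ideal AlgInt} [M.IsPrime] {H : Subgroup G}
    {b : Set (IrrCharacter H)} {B B' : Set (IrrCharacter G)} (h : IsInducedBlock M H b B)
    (h' : IsInducedBlock M H b B') : B = B' := by
  obtain ⟨ξ, hξ⟩ := isPBlock_nonempty h.1
  obtain ⟨χ, hχ⟩ := isPBlock_nonempty h.2.1
  obtain ⟨ψ, hψ⟩ := isPBlock_nonempty h'.2.1
  refine Cfsg.Agent.Blocks.Basic.isPBlock_eq_of_sameBlock h.2.1 h'.2.1 hχ hψ fun g => ?_
  have h1 := memLocalIdeal_sub_comm (h.2.2 ξ hξ χ hχ g)
  exact memLocalIdeal_sub_trans h1 (h'.2.2 ξ hξ ψ hψ g)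

variable [Finite G]

/-- Induction in stages for central characters. -/
theorem induced_sub {M : Ideal AlgInt} [M.IsPrime] {H : Subgroup G} {K' : Subgroup H}
    {K : Subgroup G} (e : K' ≃* K) (he : ∀ x : K', ((e x : K) : G) = ((x : H) : G))
    {b' : Set (IrrCharacter K')} {b : Set (IrrCharacter H)} (h : IsInducedBlock M K' b' b)
    {ξ' : IrrCharacter K'} (hξ' : ξ' ∈ b') {ξ : IrrCharacter H} (hξ : ξ ∈ b) (g : G) :
    MemLocalIdeal M (inducedCentralChar K (tr e ξ' : K → ℂ) g -
      inducedCentralChar H (ξ : H → ℂ) g) := by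
  classical
  have := Fintype.ofFinite G
  have := Fintype.ofFinite H
  have := Fintype.ofFinite K'
  have := Fintype.ofFinite K
  set f : H → ℂ := fun x => if IsConj g (x : G) then 1 else 0 with hf
  have hfc : IsClassFunction H f := by
    intro x y
    have h1 : IsConj (x : G) ((y * x * y⁻¹ : H) : G) := by
      rw [isConj_iff]
      exact ⟨(y : G), by simp⟩
    have h2 : IsConj g ((y * x * y⁻¹ : H) : G) ↔ IsConj g (x : G) :=
      ⟨fun h => h.trans h1.symm, fun h => h.trans h1⟩
    simp only [hf, h2]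
  have hfR : ∀ x, MemLocalRing M (f x) := by
    intro x
    simp only [hf]
    split_ifs
    · exact memLocalRing_one
    · exact memLocalRing_zero
  have h1 := Cfsg.Agent.Blocks.ClassSum.memLocalIdeal_of_induced K' (irr_isClassFunction ξ.2)
    (h.2.2 ξ' hξ' ξ hξ) hfc hfR
  have h2 : inducedCentralChar H (ξ : H → ℂ) g = ∑ x : H, f x * ((ξ : H → ℂ) x / (ξ : H → ℂ) 1) := by
    rw [Cfsg.Agent.Blocks.Basic.inducedCentralChar_def, finsum_eq_sum_of_fintype]
    refine Finset.sum_congr rfl fun x _ => ?_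
    change ∑ᶠ (_ : IsConj g (x : G)), _ = _
    rw [finsum_eq_if]
    simp only [hf]
    split_ifs
    · rw [one_mul]
    · rw [zero_mul]
  have h3 : inducedCentralChar K (tr e ξ' : K → ℂ) g =
      ∑ x : K', f x * ((ξ' : K' → ℂ) x / (ξ' : K' → ℂ) 1) := by
    rw [Cfsg.Agent.Blocks.Basic.inducedCentralChar_def, ← finsum_comp_equiv e.toEquiv,
      finsum_eq_sum_of_fintype]
    refine Finset.sum_congr rfl fun x _ => ?_
    have hx : (e.toEquiv x ∈ {h : K | IsConj g (h : G)}) = IsConj g ((x : H) : G) := by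
      apply propext
      simp only [Set.mem_ofPred_eq, MulEquiv.toEquiv_eq_coe, EquivLike.coe_coe, he]
    rw [hx]
    change ∑ᶠ (_ : IsConj g ((x : H) : G)), (tr e ξ' : K → ℂ) (e x) / _ = _
    rw [tr_apply_map, tr_apply_one, finsum_eq_if]
    simp only [hf]
    split_ifs
    · rw [one_mul]
    · rw [zero_mul]
  rw [h2, h3]
  exact h1

/-- Transitivity of block induction. -/
theorem induced_trans {M : Ideal AlgInt} [M.IsPrime] {H : Subgroup G} {K' : Subgroup H}
    {K : Subgroup G} (e : K' ≃* K) (he : ∀ x : K', ((e x : K) : G) = ((x : H) : G))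
    {b' : Set (IrrCharacter K')} {b : Set (IrrCharacter H)} {B : Set (IrrCharacter G)}
    (h : IsInducedBlock M K' b' b) (h' : IsInducedBlock M H b B) :
    IsInducedBlock M K (trB e b') B := by
  obtain ⟨ξ, hξ⟩ := isPBlock_nonempty h.2.1
  refine ⟨isPBlock_trB e h.1, h'.2.1, fun ξ' hξ' χ hχ g => ?_⟩
  have h1 := induced_sub e he h hξ' hξ g
  rw [tr_tr_symm] at h1
  exact memLocalIdeal_sub_trans h1 (h'.2.2 ξ hξ χ hχ g)

/-- Transitivity of block induction, converse. -/
theorem induced_of_trans {M : Ideal AlgInt} [M.IsPrime] {H : Subgroup G} {K' : Subgroup H}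
    {K : Subgroup G} (e : K' ≃* K) (he : ∀ x : K', ((e x : K) : G) = ((x : H) : G))
    {b' : Set (IrrCharacter K')} {b : Set (IrrCharacter H)} {B : Set (IrrCharacter G)}
    (h : IsInducedBlock M K' b' b) (h' : IsInducedBlock M K (trB e b') B) :
    IsInducedBlock M H b B := by
  obtain ⟨ξ', hξ'⟩ := isPBlock_nonempty h.1
  refine ⟨h.2.1, h'.2.1, fun ξ hξ χ hχ g => ?_⟩
  have h1 := memLocalIdeal_sub_comm (induced_sub e he h hξ' hξ g)
  exact memLocalIdeal_sub_trans h1 (h'.2.2 _ ((tr_mem_trB e b' ξ').2 hξ') χ hχ g)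

end Induced

end Cfsg.Agent.H662
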