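import Mathlib
import Cfsg.Agent.H662.Burnside
set_option linter.all false

/-!
# Kernels on a subspace and on the quotient

* `quot` : the representation on the quotient by an invariant subspace;
* `pow_eq_one` : in characteristic `p`, an element acting trivially on an invariant subspace and on
  the quotient has trivial `p`-th power;
* `index_ker_le` : the index of the kernel;
* `index_le_of_map` : a bound for the index of a subgroup.
-/

set_option autoImplicit false
open Module

namespace Cfsg.Agent.H662.KeyAbs

variable {K : Type*} [Field K] {H : Type*} [Group H] {V : Type*} [AddCommGroup V] [Module K V]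

/-- The representation on the quotient by an invariant subspace. -/
def quot (ρ : Representation K H V) (N : Submodule K V) (hN : Inv ρ N) :
    Representation K H (V ⧸ N) where
  toFun g := N.mapQ N (ρ g) (hN g)
  map_one' := by
    ext v
    simp
  map_mul' g h := by
    ext v
    simp [Module.End.mul_apply]

@[simp]
theorem quot_apply_mk (ρ : Representation K H V) (N : Submodule K V) (hN : Inv ρ N) (g : H)
    (v : V) : quot ρ N hN g (Submodule.Quotient.mk v) = Submodule.Quotient.mk (ρ g v) := rfl

theorem asAlgebraHom_quot_mk (ρ : Representation K H V) (N : Submodule K V) (hN : Inv ρ N)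
    (a : MonoidAlgebra K H) (v : V) :
    (quot ρ N hN).asAlgebraHom a (Submodule.Quotient.mk v) =
      Submodule.Quotient.mk (ρ.asAlgebraHom a v) := by
  induction a using MonoidAlgebra.induction_linear with
  | zero => simp
  | add x y hx hy => simp [hx, hy]
  | single g c => simp

theorem asAlgebraHom_sub_eq_one (ρ : Representation K H V) (N : Submodule K V) (hN : Inv ρ N)
    {e : MonoidAlgebra K H} (he : ρ.asAlgebraHom e = 1) : (sub ρ N hN).asAlgebraHom e = 1 := by
  ext v
  rw [coe_asAlgebraHom_sub, he]
  rfl

theorem asAlgebraHom_quot_eq_one (ρ : Representation K H V) (N : Submodule K V) (hN : Inv ρ N)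
    {e : MonoidAlgebra K H} (he : ρ.asAlgebraHom e = 1) : (quot ρ N hN).asAlgebraHom e = 1 := by
  ext v
  show (quot ρ N hN).asAlgebraHom e (Submodule.Quotient.mk v) = Submodule.Quotient.mk v
  rw [asAlgebraHom_quot_mk, he]
  rfl

theorem pow_eq_one {p : ℕ} [Fact p.Prime] [CharP K p] (ρ : Representation K H V)
    (N : Submodule K V) (hN : Inv ρ N) {u : H} (h1 : sub ρ N hN u = 1) (h2 : quot ρ N hN u = 1) :
    ρ (u ^ p) = 1 := by
  rcases subsingleton_or_nontrivial V with hV | hV
  · exact Subsingleton.elim _ _
  have : CharP (Module.End K V) p :=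
    charP_of_injective_algebraMap (FaithfulSMul.algebraMap_injective K (Module.End K V)) p
  have h3 : (ρ u - 1) ^ 2 = 0 := by
    ext v
    rw [pow_two, Module.End.mul_apply, LinearMap.zero_apply]
    have h4 : (ρ u - 1) v ∈ N := by
      have := LinearMap.congr_fun h2 (Submodule.Quotient.mk v)
      rw [quot_apply_mk, Module.End.one_apply, Submodule.Quotient.eq] at this
      exact this
    have h5 := congrArg Subtype.val (LinearMap.congr_fun h1 ⟨_, h4⟩)
    rw [coe_sub_apply] at h5
    rw [LinearMap.sub_apply, Module.End.one_apply]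
    exact sub_eq_zero.2 h5
  have h4 : (ρ u - 1) ^ p = 0 := by
    have h2p := (Fact.out : p.Prime).two_le
    rw [← Nat.sub_add_cancel h2p, pow_add, h3, mul_zero]
  rw [sub_pow_char_of_commute (p := p) (Commute.one_right _), one_pow, ← map_pow, sub_eq_zero] at h4
  exact h4

/-- A bound for the index of a subgroup. -/
theorem index_le_of_map {G X : Type*} [Group G] [Finite X] (N : Subgroup G) (f : G → X)
    (h : ∀ g g', f g = f g' → g⁻¹ * g' ∈ N) : N.index ≤ Nat.card X := by
  apply Nat.card_le_card_of_injective (fun a : G ⧸ N => f (Quotient.out a))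
  intro a b hab
  have h1 := h _ _ hab
  rw [← QuotientGroup.eq, QuotientGroup.out_eq', QuotientGroup.out_eq'] at h1
  exact h1

theorem relIndex_le_of_pow {G : Type*} [Group G] [Finite G] {p : ℕ} [hp : Fact p.Prime]
    (N U : Subgroup G) [N.Normal] (h : ∀ u ∈ U, u ^ p ∈ N) :
    N.relIndex U ≤ p ^ (Nat.card G).factorization p := by
  have h1 : IsPGroup p (U ⧸ N.subgroupOf U) := by
    intro x
    induction x using QuotientGroup.induction_on with
    | H u =>
      refine ⟨1, ?_⟩
      rw [pow_one, ← QuotientGroup.mk_pow, QuotientGroup.eq_one_iff, Subgroup.mem_subgroupOf]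
      exact h u u.2
  obtain ⟨k, hk⟩ := IsPGroup.iff_card.1 h1
  have h2 : N.relIndex U = p ^ k := hk
  have h3 : p ^ k ∣ Nat.card G := by
    rw [← h2]
    exact (Subgroup.relIndex_dvd_card N U).trans (Subgroup.card_subgroup_dvd_card U)
  rw [h2]
  exact Nat.pow_le_pow_right hp.out.pos
    ((hp.out.pow_dvd_iff_le_factorization Nat.card_pos.ne').1 h3)

/-- The index of the kernel, from a subspace and the quotient. -/
theorem index_ker_le [Finite H] {p : ℕ} [Fact p.Prime] [CharP K p] (ρ : Representation K H V)
    (N : Submodule K V) (hN : Inv ρ N) :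
    (MonoidHom.ker ρ).index ≤ p ^ (Nat.card H).factorization p *
      ((MonoidHom.ker (sub ρ N hN)).index * (MonoidHom.ker (quot ρ N hN)).index) := by
  set U := MonoidHom.ker (sub ρ N hN) ⊓ MonoidHom.ker (quot ρ N hN) with hU
  have h1 : MonoidHom.ker ρ ≤ U := by
    intro g hg
    rw [MonoidHom.mem_ker] at hg
    refine Subgroup.mem_inf.2 ⟨?_, ?_⟩
    · rw [MonoidHom.mem_ker]
      ext v
      rw [coe_sub_apply, hg]
      rfl
    · rw [MonoidHom.mem_ker]
      ext v
      show quot ρ N hN g (Submodule.Quotient.mk v) = Submodule.Quotient.mk v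
      rw [quot_apply_mk, hg]
      rfl
  rw [← Subgroup.relIndex_mul_index h1]
  refine Nat.mul_le_mul (relIndex_le_of_pow _ _ ?_) Subgroup.index_inf_le
  rintro u ⟨hu1, hu2⟩
  exact pow_eq_one ρ N hN hu1 hu2

end Cfsg.Agent.H662.KeyAbs
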