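import Mathlib
import Cfsg.Agent.H662.TwoStep
import Cfsg.Agent.Blocks.Local
set_option linter.all false

-- part: H662/LiftIdem
section
/-!
# Lifting the image of an idempotent matrix to characteristic zero

`O` is a ring over which monic polynomials split, with an injective homomorphism to an algebraically
closed field `L` and a homomorphism to a field `K`.  If `B` is a matrix over `O` whose image over `K`
is idempotent of rank `r`, then there is a subspace over `L`, stable under everything commuting with
`B`, of dimension at most `r`, such that a permutation of the coordinates fixing it pointwise also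
fixes the image of `B` over `K` pointwise.
-/

set_option autoImplicit false
open Module

namespace Cfsg.Agent.H662.LiftIdem

open Polynomial

variable {O L K : Type*} [CommRing O] [Field L] [Field K]

theorem finrank_sup_le {V : Type*} [AddCommGroup V] [Module L V] [FiniteDimensional L V] {α : Type*}
    (s : Finset α) (E : α → Submodule L V) :
    finrank L (s.sup E : Submodule L V) ≤ ∑ a ∈ s, finrank L (E a) := by
  classical
  induction s using Finset.induction_on with
  | empty => simp
  | insert a s ha ih =>
    rw [Finset.sup_insert, Finset.sum_insert ha]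
    exact (Submodule.finrank_add_le_finrank_add_finrank _ _).trans (Nat.add_le_add_left ih _)

theorem exists_mul_pow {A : Type*} [Ring A] {t : A} (ht : t * t = t) (k : ℕ) :
    ∃ u : A, u * (t - 1) ^ (k + 1) = t - 1 := by
  induction k with
  | zero => exact ⟨1, by simp⟩
  | succ k ih =>
    obtain ⟨u, hu⟩ := ih
    refine ⟨-u, ?_⟩
    have h2 : (t - 1) * (t - 1) = -(t - 1) := by
      rw [sub_mul, mul_sub, mul_sub, ht]
      simp
    calc -u * (t - 1) ^ (k + 1 + 1) = -(u * (t - 1) ^ (k + 1)) * (t - 1) := by
          rw [pow_succ (t - 1) (k + 1), neg_mul, neg_mul, mul_assoc]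
      _ = t - 1 := by rw [hu, neg_mul, h2, neg_neg]

theorem finrank_maxGenEigenspace_one_le {n : Type*} [Fintype n] [DecidableEq n] {E : Matrix n n K}
    (hE : E * E = E) :
    finrank K (Module.End.maxGenEigenspace (Matrix.toLin' E) (1 : K)) ≤ E.rank := by
  apply Submodule.finrank_mono
  intro v hv
  rw [Module.End.mem_maxGenEigenspace] at hv
  obtain ⟨k, hk⟩ := hv
  set t : Module.End K (n → K) := Matrix.toLin' E with ht
  have hid : t * t = t := by
    rw [Module.End.mul_eq_comp, ht, ← Matrix.toLin'_mul, hE]
  obtain ⟨u, hu⟩ := exists_mul_pow hid k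
  rw [one_smul] at hk
  have h2 : (t - 1) v = 0 := by
    rw [← hu, Module.End.mul_apply, pow_succ', Module.End.mul_apply, hk, map_zero, map_zero]
  refine ⟨v, ?_⟩
  rw [LinearMap.sub_apply, Module.End.one_apply, sub_eq_zero] at h2
  exact h2

theorem exists_space [IsDomain O] [IsAlgClosed L] (i : O →+* L) (hi : Function.Injective i)
    (hsplit : ∀ f : O[X], f.Monic → ∃ R : Multiset O, f = (R.map fun r => X - C r).prod)
    (φ : O →+* K) {n : Type*} [Fintype n] [DecidableEq n] (B : Matrix n n O)
    (hB : (B.map φ) * (B.map φ) = B.map φ) :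
    ∃ W : Submodule L (n → L),
      (∀ T' : Module.End L (n → L), Commute (Matrix.toLin' (B.map i)) T' → ∀ v ∈ W, T' v ∈ W) ∧
      finrank L W ≤ (B.map φ).rank ∧
      ∀ σ : n → n, (∀ v ∈ W, v ∘ σ = v) →
        ∀ v : n → K, ((B.map φ).mulVec v) ∘ σ = (B.map φ).mulVec v := by
  classical
  obtain ⟨R, hR⟩ := hsplit B.charpoly (Matrix.charpoly_monic B)
  set R1 := R.filter fun r => 1 = φ r with hR1
  set R0 := R.filter fun r => ¬ (1 = φ r) with hR0
  set f0 : O[X] := (R0.map fun r => X - C r).prod with hf0
  set T : Module.End L (n → L) := Matrix.toLin' (B.map i) with hT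
  set E : O → Submodule L (n → L) := fun r => T.maxGenEigenspace (i r) with hE
  have hTchar : LinearMap.charpoly T = ((R.map i).map fun r => X - C r).prod := by
    rw [hT, Matrix.charpoly_toLin', Matrix.charpoly_map, hR, Polynomial.map_multiset_prod,
      Multiset.map_map, Multiset.map_map]
    congr 1
    refine Multiset.map_congr rfl fun r _ => ?_
    simp
  have hKchar : (B.map φ).charpoly = ((R.map φ).map fun r => X - C r).prod := by
    rw [Matrix.charpoly_map, hR, Polynomial.map_multiset_prod, Multiset.map_map, Multiset.map_map]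
    congr 1
    refine Multiset.map_congr rfl fun r _ => ?_
    simp
  have hcount : ∀ r, finrank L (E r) = R.count r := by
    intro r
    rw [hE]
    show finrank L (T.maxGenEigenspace (i r)) = _
    rw [LinearMap.finrank_maxGenEigenspace_eq, ← Polynomial.count_roots, hTchar,
      Polynomial.roots_multiset_prod_X_sub_C, Multiset.count_map_eq_count' i R hi]
  -- the eigenvalues over `K`
  have hzero : ∀ r ∈ R0, φ r = 0 := by
    intro r hr
    rw [hR0, Multiset.mem_filter] at hr
    have h1 : (LinearMap.charpoly (Matrix.toLin' (B.map φ))).IsRoot (φ r) := by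
      rw [Matrix.charpoly_toLin', hKchar, ← Polynomial.mem_roots (by
        rw [← hKchar]
        exact (Matrix.charpoly_monic _).ne_zero), Polynomial.roots_multiset_prod_X_sub_C]
      exact Multiset.mem_map_of_mem _ hr.1
    rw [← Module.End.hasEigenvalue_iff_isRoot_charpoly] at h1
    obtain ⟨v, hv⟩ := h1.exists_hasEigenvector
    have h2 := hv.apply_eq_smul
    have h3 : φ r * φ r = φ r := by
      have h4 : Matrix.toLin' (B.map φ) (Matrix.toLin' (B.map φ) v) =
          Matrix.toLin' (B.map φ) v := by
        rw [← LinearMap.comp_apply, ← Matrix.toLin'_mul, hB]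
      rw [h2, map_smul, h2, smul_smul] at h4
      exact smul_left_injective K hv.2 h4
    by_contra h5
    apply hr.2
    exact (mul_left_cancel₀ h5 (by rw [h3, mul_one])).symm
  have hR1card : R1.card ≤ (B.map φ).rank := by
    refine le_trans (le_of_eq ?_) (finrank_maxGenEigenspace_one_le hB)
    rw [LinearMap.finrank_maxGenEigenspace_eq, ← Polynomial.count_roots, Matrix.charpoly_toLin',
      hKchar, Polynomial.roots_multiset_prod_X_sub_C, Multiset.count_map, hR1]
  set W : Submodule L (n → L) := R1.toFinset.sup E with hW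
  have hEW : ∀ r ∈ R1, E r ≤ W := fun r hr =>
    Finset.le_sup (f := E) (Multiset.mem_toFinset.2 hr)
  have hstable : ∀ T' : Module.End L (n → L), Commute T T' → ∀ v ∈ W, T' v ∈ W := by
    intro T' hT'
    have h1 : W ≤ W.comap T' := by
      rw [hW]
      refine Finset.sup_le fun r hr => ?_
      intro v hv
      rw [Submodule.mem_comap]
      exact (hEW r (Multiset.mem_toFinset.1 hr))
        (Module.End.mapsTo_maxGenEigenspace_of_comm hT' (i r) hv)
    exact h1
  refine ⟨W, hstable, ?_, ?_⟩
  · refine (finrank_sup_le _ _).trans (le_trans (le_of_eq ?_) hR1card)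
    rw [← Multiset.toFinset_sum_count_eq]
    refine Finset.sum_congr rfl fun r hr => ?_
    rw [hcount, hR1, Multiset.count_filter_of_pos]
    rw [Multiset.mem_toFinset, hR1, Multiset.mem_filter] at hr
    exact hr.2
  · intro σ hσ
    set N := Fintype.card n with hN
    set Q : Matrix n n O := aeval B (f0 ^ N) with hQ
    have hQL : Matrix.toLin' (Q.map i) = aeval T ((f0 ^ N).map i) := by
      have h1 := Polynomial.map_aeval_eq_aeval_map (φ := i)
        (ψ := (i.mapMatrix : Matrix n n O →+* Matrix n n L)) (by
          ext r a b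
          simp [Matrix.algebraMap_matrix_apply, apply_ite i]) (f0 ^ N) B
      have h2 : Q.map i = aeval (B.map i) ((f0 ^ N).map i) := h1
      rw [h2]
      exact Polynomial.aeval_algHom_apply (Matrix.toLinAlgEquiv' : Matrix n n L ≃ₐ[L] _).toAlgHom
        (B.map i) ((f0 ^ N).map i) |>.symm
    -- `Q` kills the other eigenspaces, and its image is fixed by `σ`
    have hkill : ∀ r ∈ R0, ∀ v ∈ E r, aeval T ((f0 ^ N).map i) v = 0 := by
      intro r hr v hv
      have h1 : (X - C r) ∣ f0 := Multiset.dvd_prod (Multiset.mem_map_of_mem _ hr)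
      obtain ⟨g, hg⟩ := pow_dvd_pow_of_dvd h1 N
      have h2 : v ∈ T.maxGenEigenspace (i r) := hv
      rw [Module.End.maxGenEigenspace_eq_genEigenspace_finrank, Module.End.mem_genEigenspace_nat,
        Module.finrank_fintype_fun_eq_card, ← hN, LinearMap.mem_ker] at h2
      have h3 : aeval T (((X - C r) ^ N).map i) = (T - (i r) • 1) ^ N := by
        simp [Algebra.algebraMap_eq_smul_one]
      rw [hg, Polynomial.map_mul, mul_comm, Polynomial.aeval_mul, Module.End.mul_apply, h3, h2,
        map_zero]
    have hfix : ∀ v : n → L, (aeval T ((f0 ^ N).map i) v) ∘ σ = aeval T ((f0 ^ N).map i) v := by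
      let S : Submodule L (n → L) :=
        { carrier := {v | (aeval T ((f0 ^ N).map i) v) ∘ σ = aeval T ((f0 ^ N).map i) v}
          add_mem' := fun {v w} hv hw => by
            have hv' : (aeval T ((f0 ^ N).map i) v) ∘ σ = aeval T ((f0 ^ N).map i) v := hv
            have hw' : (aeval T ((f0 ^ N).map i) w) ∘ σ = aeval T ((f0 ^ N).map i) w := hw
            show (aeval T ((f0 ^ N).map i) (v + w)) ∘ σ = aeval T ((f0 ^ N).map i) (v + w)
            rw [map_add, Pi.add_comp, hv', hw']
          zero_mem' := by
            show (aeval T ((f0 ^ N).map i) 0) ∘ σ = aeval T ((f0 ^ N).map i) 0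
            rw [map_zero]
            rfl
          smul_mem' := fun c v hv => by
            have hv' : (aeval T ((f0 ^ N).map i) v) ∘ σ = aeval T ((f0 ^ N).map i) v := hv
            show (aeval T ((f0 ^ N).map i) (c • v)) ∘ σ = aeval T ((f0 ^ N).map i) (c • v)
            rw [map_smul, Pi.smul_comp, hv'] }
      have hS : ∀ v, v ∈ S ↔ (aeval T ((f0 ^ N).map i) v) ∘ σ = aeval T ((f0 ^ N).map i) v :=
        fun v => Iff.rfl
      have hStop : S = ⊤ := by
        rw [eq_top_iff, ← Module.End.iSup_maxGenEigenspace_eq_top T]
        refine iSup_le fun μ => ?_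
        by_cases hμ : μ ∈ R.map i
        · obtain ⟨r, hr, rfl⟩ := Multiset.mem_map.1 hμ
          intro v hv
          rw [hS]
          by_cases hr1 : 1 = φ r
          · apply hσ
            apply hstable _ _ v (hEW r (Multiset.mem_filter.2 ⟨hr, hr1⟩) hv)
            have h2 := (Commute.all (X : L[X]) ((f0 ^ N).map i)).map (aeval T)
            rwa [aeval_X] at h2
          · rw [hkill r (Multiset.mem_filter.2 ⟨hr, hr1⟩) v hv]
            rfl
        · have h1 : finrank L (T.maxGenEigenspace μ) = 0 := by
            rw [LinearMap.finrank_maxGenEigenspace_eq, ← Polynomial.count_roots, hTchar,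
              Polynomial.roots_multiset_prod_X_sub_C, Multiset.count_eq_zero]
            exact hμ
          rw [Submodule.finrank_eq_zero.1 h1]
          exact bot_le
      intro v
      rw [← hS, hStop]
      exact Submodule.mem_top
    -- entries
    have hentry : ∀ a b, Q (σ a) b = Q a b := by
      intro a b
      apply hi
      have h1 := congrFun (hfix (Pi.single b 1)) a
      rw [← hQL, Function.comp_apply, Matrix.toLin'_apply, Matrix.mulVec_single_one] at h1
      exact h1
    -- reduction
    have hf0K : f0.map φ = X ^ R0.card := by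
      rw [hf0, Polynomial.map_multiset_prod, Multiset.map_map,
        Multiset.map_congr rfl (g := fun _ => (X : K[X])) (fun r hr => by
          simp [hzero r hr]), Multiset.map_const', Multiset.prod_replicate]
    have hQK : Q.map φ = (B.map φ) ^ (R0.card * N) := by
      have h1 := Polynomial.map_aeval_eq_aeval_map (φ := φ)
        (ψ := (φ.mapMatrix : Matrix n n O →+* Matrix n n K)) (by
          ext r a b
          simp [Matrix.algebraMap_matrix_apply, apply_ite φ]) (f0 ^ N) B
      have h2 : Q.map φ = aeval (B.map φ) ((f0 ^ N).map φ) := h1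
      rw [h2, Polynomial.map_pow, hf0K, ← pow_mul, map_pow, aeval_X]
    intro v
    have hpow : ∀ k : ℕ, (B.map φ) ^ k * (B.map φ) = B.map φ := by
      intro k
      induction k with
      | zero => simp
      | succ k ih => rw [pow_succ, mul_assoc, hB, ih]
    have h1 : (B.map φ).mulVec v = (Q.map φ).mulVec ((B.map φ).mulVec v) := by
      rw [Matrix.mulVec_mulVec, hQK, hpow]
    rw [h1]
    funext a
    rw [Function.comp_apply, Matrix.mulVec, Matrix.mulVec, dotProduct, dotProduct]
    refine Finset.sum_congr rfl fun b _ => ?_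
    rw [Matrix.map_apply, Matrix.map_apply, hentry]

end Cfsg.Agent.H662.LiftIdem
end

-- part: H662/LiftRep
section
/-!
# Lifting representations of `p'`-groups to characteristic zero

`exists_complex_rep` : if `p` does not divide the order of `G`, a faithful representation of `G`
over the residue field gives a faithful complex representation of no larger dimension.
-/

set_option autoImplicit false
open Module Cfsg

namespace Cfsg.Agent.H662.LiftRep

open Cfsg.Agent.H662.KeyAbs Cfsg.Agent.H662.LiftIdem Cfsg.Agent.Blocks.Local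

theorem algInt_split (f : Polynomial AlgInt) (hf : f.Monic) :
    ∃ R : Multiset AlgInt, f = (R.map fun r => Polynomial.X - Polynomial.C r).prod := by
  classical
  have hinj : Function.Injective (algebraMap AlgInt ℂ) := Subtype.val_injective
  have h1 : (f.map (algebraMap AlgInt ℂ)).Splits := IsAlgClosed.splits _
  have h2 := h1.eq_prod_roots_of_monic (hf.map _)
  have h3 : ∀ z ∈ (f.map (algebraMap AlgInt ℂ)).roots, IsIntegral ℤ z := by
    intro z hz
    have hz1 : IsIntegral AlgInt z := by
      refine ⟨f, hf, ?_⟩
      have := (Polynomial.mem_roots (hf.map _).ne_zero).1 hz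
      rw [Polynomial.IsRoot, Polynomial.eval_map] at this
      exact this
    exact isIntegral_trans (A := AlgInt) z hz1
  refine ⟨(f.map (algebraMap AlgInt ℂ)).roots.attach.map fun z => ⟨z.1, h3 z.1 z.2⟩, ?_⟩
  apply Polynomial.map_injective _ hinj
  conv_lhs => rw [h2]
  rw [Polynomial.map_multiset_prod, Multiset.map_map, Multiset.map_map]
  conv_lhs => rw [← Multiset.attach_map_val (f.map (algebraMap AlgInt ℂ)).roots]
  rw [Multiset.map_map]
  congr 1
  refine Multiset.map_congr rfl fun z _ => ?_
  simp

section reg

variable {G : Type*} [Group G] (n : ℕ)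

/-- Left translation of indices. -/
def sg (x : G) : G × Fin n → G × Fin n := fun a => (x⁻¹ * a.1, a.2)

theorem sg_mul (x y : G) (a : G × Fin n) : sg n (x * y) a = sg n y (sg n x a) := by
  simp [sg, mul_assoc]

theorem sg_one (a : G × Fin n) : sg n (1 : G) a = a := by
  simp [sg]

/-- The representation by translation. -/
def regRep (A : Type*) [Field A] : Representation A G (G × Fin n → A) where
  toFun x := LinearMap.funLeft A A (sg n x)
  map_one' := by
    ext f a
    simp [LinearMap.funLeft, sg_one]
  map_mul' x y := by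
    ext f a
    simp [LinearMap.funLeft, sg_mul, Module.End.mul_apply]

theorem regRep_apply (A : Type*) [Field A] (x : G) (f : G × Fin n → A) :
    regRep n A x f = f ∘ sg n x := rfl

end reg

section split

variable {K : Type*} [Field K] {G : Type*} [Group G] [Fintype G] {V : Type*} [AddCommGroup V]
  [Module K V]

omit [Fintype G] in
theorem sg_bijective (n : ℕ) (x : G) : Function.Bijective (sg n x) := by
  refine Function.bijective_iff_has_inverse.2 ⟨sg n x⁻¹, fun a => ?_, fun a => ?_⟩
  · rw [← sg_mul, mul_inv_cancel, sg_one]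
  · rw [← sg_mul, inv_mul_cancel, sg_one]

/-- A representation of dimension `n` is a summand of `n` copies of the regular one. -/
theorem exists_split (hG : (Nat.card G : K) ≠ 0) {n : ℕ} (b : Basis (Fin n) K V)
    (ρ : Representation K G V) :
    ∃ (s : V →ₗ[K] (G × Fin n → K)) (π : (G × Fin n → K) →ₗ[K] V),
      (∀ v, π (s v) = v) ∧ (∀ x v, s (ρ x v) = s v ∘ sg n x) ∧
      ∀ x f, π (f ∘ sg n x) = ρ x (π f) := by
  classical
  let π : (G × Fin n → K) →ₗ[K] V := ∑ a : G × Fin n,
    (LinearMap.proj a : (G × Fin n → K) →ₗ[K] K).smulRight (ρ a.1 (b a.2))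
  have hπ : ∀ f, π f = ∑ a : G × Fin n, f a • ρ a.1 (b a.2) := by
    intro f
    simp [π, LinearMap.sum_apply]
  have hπx : ∀ x f, π (f ∘ sg n x) = ρ x (π f) := by
    intro x f
    rw [hπ, hπ, map_sum]
    refine Fintype.sum_bijective (sg n x) (sg_bijective n x) _ _ fun a => ?_
    rw [map_smul, ← Module.End.mul_apply, ← map_mul]
    simp [sg]
  let s0 : V →ₗ[K] (G × Fin n → K) := LinearMap.pi fun a =>
    if a.1 = 1 then b.coord a.2 else 0
  have hs0 : ∀ v a, s0 v a = if a.1 = 1 then b.coord a.2 v else 0 := by
    intro v a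
    simp only [s0, LinearMap.pi_apply]
    split_ifs <;> rfl
  have hπs0 : ∀ v, π (s0 v) = v := by
    intro v
    rw [hπ, Fintype.sum_prod_type, Finset.sum_eq_single 1]
    · simp only [hs0, if_pos, map_one, Module.End.one_apply]
      exact b.sum_repr v
    · intro g _ hg
      refine Finset.sum_eq_zero fun i _ => ?_
      rw [hs0, if_neg hg, zero_smul]
    · intro h
      exact absurd (Finset.mem_univ _) h
  let s : V →ₗ[K] (G × Fin n → K) := (Nat.card G : K)⁻¹ •
    ∑ x : G, (LinearMap.funLeft K K (sg n x)) ∘ₗ s0 ∘ₗ (ρ x⁻¹)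
  have hs : ∀ v, s v = (Nat.card G : K)⁻¹ • ∑ x : G, (s0 (ρ x⁻¹ v)) ∘ sg n x := by
    intro v
    simp only [s, LinearMap.smul_apply, LinearMap.sum_apply, LinearMap.comp_apply]
    rfl
  refine ⟨s, π, fun v => ?_, fun y v => ?_, hπx⟩
  · rw [hs, map_smul, map_sum]
    have h1 : ∀ x : G, π ((s0 (ρ x⁻¹ v)) ∘ sg n x) = v := by
      intro x
      rw [hπx, hπs0, ← Module.End.mul_apply, ← map_mul, mul_inv_cancel, map_one,
        Module.End.one_apply]
    rw [Finset.sum_congr rfl fun x _ => h1 x, Finset.sum_const, Finset.card_univ,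
      ← Nat.card_eq_fintype_card, ← Nat.cast_smul_eq_nsmul K, smul_smul, inv_mul_cancel₀ hG,
      one_smul]
  · rw [hs, hs]
    funext a
    simp only [Pi.smul_apply, Finset.sum_apply, Function.comp_apply]
    congr 1
    refine Fintype.sum_bijective (fun x => y⁻¹ * x) (Group.mulLeft_bijective y⁻¹) _ _ fun x => ?_
    rw [← Module.End.mul_apply, ← map_mul, ← sg_mul, mul_inv_rev, inv_inv, mul_inv_cancel_left]

end split

/-- Generic version. -/
theorem exists_rep {O L K : Type*} [CommRing O] [IsDomain O] [Field L] [IsAlgClosed L] [Field K]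
    (i : O →+* L) (hi : Function.Injective i)
    (hsplit : ∀ f : Polynomial O, f.Monic → ∃ R : Multiset O,
      f = (R.map fun r => Polynomial.X - Polynomial.C r).prod)
    (φ : O →+* K) (hφ : Function.Surjective φ) {G : Type*} [Group G] [Finite G]
    (hG : (Nat.card G : K) ≠ 0) {V : Type*} [AddCommGroup V] [Module K V] {n : ℕ}
    (b : Basis (Fin n) K V) (ρ : Representation K G V) (hρ : Function.Injective ρ) :
    ∃ (W : Submodule L (G × Fin n → L)) (τ : Representation L G W),
      Function.Injective τ ∧ finrank L W ≤ n := by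
  classical
  have := Fintype.ofFinite G
  obtain ⟨s, π, hπs, hs, hπ⟩ := exists_split hG b ρ
  set ē : Module.End K (G × Fin n → K) := s ∘ₗ π with hē
  set E : Matrix (G × Fin n) (G × Fin n) K := LinearMap.toMatrix' ē with hE
  have hEE : E * E = E := by
    rw [hE, ← LinearMap.toMatrix'_mul]
    congr 1
    refine LinearMap.ext fun f => ?_
    show s (π (s (π f))) = s (π f)
    rw [hπs]
  have hEmul : ∀ f, E.mulVec f = s (π f) := by
    intro f
    rw [hE, LinearMap.toMatrix'_mulVec]
    rfl
  have hEent : ∀ (x : G) (a b : G × Fin n), E a (sg n x b) = E (sg n x⁻¹ a) b := by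
    intro x a b
    have h1 : ∀ c d, E c d = ē (Pi.single d 1) c := fun c d => LinearMap.toMatrix'_apply _ _ _
    have h2 : (Pi.single (sg n x b) (1 : K) : G × Fin n → K) =
        (Pi.single b (1 : K)) ∘ sg n x⁻¹ := by
      funext c
      rw [Function.comp_apply]
      by_cases hc : c = sg n x b
      · subst hc
        rw [Pi.single_eq_same, ← sg_mul, mul_inv_cancel, sg_one, Pi.single_eq_same]
      · rw [Pi.single_eq_of_ne hc, Pi.single_eq_of_ne]
        intro h
        apply hc
        rw [← h, ← sg_mul, inv_mul_cancel, sg_one]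
    rw [h1, h1, h2]
    show s (π (Pi.single b 1 ∘ sg n x⁻¹)) a = s (π (Pi.single b 1)) (sg n x⁻¹ a)
    rw [hπ, hs]
    rfl
  -- the lift
  choose lft hlft using hφ
  let B : Matrix (G × Fin n) (G × Fin n) O := Matrix.of fun a b =>
    lft (E (b.1⁻¹ * a.1, a.2) (1, b.2))
  have hBE : B.map φ = E := by
    ext a b
    show φ (lft _) = _
    rw [hlft]
    have h1 := hEent b.1⁻¹ a (1, b.2)
    have h2 : sg n b.1⁻¹ (1, b.2) = b := by
      simp [sg]
    rw [h2] at h1
    rw [h1]
    simp [sg]
  have hBent : ∀ (x : G) (a b : G × Fin n), B (sg n x a) b = B a (sg n x⁻¹ b) := by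
    intro x a b
    show lft _ = lft _
    simp [sg, mul_assoc]
  obtain ⟨W, hW1, hW2, hW3⟩ := exists_space i hi hsplit φ B (by rw [hBE]; exact hEE)
  have hcomm : ∀ x, Commute (Matrix.toLin' (B.map i) : Module.End L _) (regRep n L x) := by
    intro x
    apply LinearMap.ext
    intro f
    show Matrix.toLin' (B.map i) (regRep n L x f) = regRep n L x (Matrix.toLin' (B.map i) f)
    rw [regRep_apply, regRep_apply]
    funext a
    rw [Function.comp_apply, Matrix.toLin'_apply, Matrix.toLin'_apply, Matrix.mulVec,
      Matrix.mulVec, dotProduct, dotProduct]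
    refine Fintype.sum_bijective (sg n x) (sg_bijective n x) _ _ fun b => ?_
    rw [Matrix.map_apply, Matrix.map_apply, hBent, ← sg_mul, mul_inv_cancel, sg_one]
    rfl
  have hinv : Inv (regRep n L) W := fun x v hv => hW1 _ (hcomm x) v hv
  refine ⟨W, sub (regRep n L) W hinv, ?_, ?_⟩
  · rw [injective_iff_map_eq_one]
    intro x hx
    apply hρ
    rw [map_one]
    have h1 : ∀ v ∈ W, v ∘ sg n x = v := by
      intro v hv
      exact congrArg Subtype.val (LinearMap.congr_fun hx ⟨v, hv⟩)
    ext w
    have h2 := hW3 (sg n x) h1 (s w)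
    rw [hBE, hEmul, hπs, ← hs] at h2
    have h3 := congrArg π h2
    rw [hπs, hπs] at h3
    exact h3
  · refine hW2.trans ?_
    rw [hBE]
    have hfd : FiniteDimensional K V := Module.Basis.finiteDimensional_of_finite b
    have h1 : LinearMap.range E.mulVecLin ≤ LinearMap.range s := by
      rintro _ ⟨f, rfl⟩
      exact ⟨π f, (hEmul f).symm⟩
    have h2 := (Submodule.finrank_mono h1).trans (LinearMap.finrank_range_le s)
    rw [finrank_eq_card_basis b, Fintype.card_fin] at h2
    exact h2

section main

variable {G : Type*} [Group G] [Finite G] {p : ℕ} {M : Ideal AlgInt} [hP : M.IsPrime]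

/-- **Lifting**: a faithful representation of a `p'`-group over the residue field gives a faithful
complex representation of no larger dimension. -/
theorem exists_complex_rep (hM : IsPModular p M) (hG : ¬ p ∣ Nat.card G) {V : Type*}
    [AddCommGroup V] [Module (ResField M) V] [FiniteDimensional (ResField M) V]
    (ρ : Representation (ResField M) G V) (hρ : Function.Injective ρ) :
    ∃ (W : Submodule ℂ (G × Fin (finrank (ResField M) V) → ℂ)) (τ : Representation ℂ G W),
      Function.Injective τ ∧ finrank ℂ W ≤ finrank (ResField M) V := by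
  have hmax : M.IsMaximal := isMaximal_of_isPModular hM
  have hchar : CharP (ResField M) p := charP_resField hM
  have hG' : (Nat.card G : ResField M) ≠ 0 := fun h =>
    hG ((CharP.cast_eq_zero_iff (ResField M) p _).1 h)
  refine exists_rep (algebraMap AlgInt ℂ) Subtype.val_injective algInt_split
    ((red M).comp (inclLocal M)) ?_ hG' (finBasis (ResField M) V) ρ hρ
  intro x
  obtain ⟨a, ha⟩ := exists_algInt_redC_eq x
  refine ⟨a, ?_⟩
  rw [← ha, redC_def (memLocalRing_algInt a)]
  rfl

end main

end Cfsg.Agent.H662.LiftRep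
end
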