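import Mathlib
set_option linter.all false

/-!
# The Chermak-Delgado argument

A finite group with an abelian subgroup `B` has a characteristic abelian subgroup of index at most
`B.index ^ 2`.
-/

set_option autoImplicit false

namespace Cfsg.Agent.H662.ChermakDelgado

variable {G : Type*} [Group G]

/-- The Chermak-Delgado measure. -/
noncomputable def cd (X : Subgroup G) : ℕ := Nat.card X * Nat.card (Subgroup.centralizer (X : Set G))

variable [Finite G]

theorem card_mul_card_le (X Y : Subgroup G) :
    Nat.card X * Nat.card Y ≤ Nat.card (X ⊓ Y : Subgroup G) * Nat.card (X ⊔ Y : Subgroup G) := by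
  have h0 : ∀ A B : Subgroup G, A ≤ B → Nat.card A * A.relIndex B = Nat.card B := by
    intro A B hAB
    have := Subgroup.relIndex_mul_relIndex ⊥ A B bot_le hAB
    rwa [Subgroup.relIndex_bot_left, Subgroup.relIndex_bot_left] at this
  have h1 : Nat.card (X ⊓ Y : Subgroup G) * (X ⊓ Y).relIndex X = Nat.card X := h0 _ _ inf_le_left
  have h2 : Nat.card Y * Y.relIndex (X ⊔ Y) = Nat.card (X ⊔ Y : Subgroup G) := h0 _ _ le_sup_right
  have h3 : (X ⊓ Y).relIndex X ≤ Y.relIndex (X ⊔ Y) := by
    rw [Subgroup.inf_relIndex_left]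
    exact Subgroup.relIndex_le_of_le_right le_sup_left
      (show (Y.subgroupOf (X ⊔ Y)).index ≠ 0 from Subgroup.index_ne_zero_of_finite)
  rw [← h1, ← h2, mul_assoc]
  apply Nat.mul_le_mul_left
  rw [mul_comm]
  exact Nat.mul_le_mul_left _ h3

omit [Finite G] in
theorem centralizer_sup_eq (X Y : Subgroup G) :
    Subgroup.centralizer ((X ⊔ Y : Subgroup G) : Set G) =
      Subgroup.centralizer (X : Set G) ⊓ Subgroup.centralizer (Y : Set G) := by
  apply le_antisymm
  · exact le_inf (Subgroup.centralizer_le (SetLike.coe_subset_coe.2 le_sup_left))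
      (Subgroup.centralizer_le (SetLike.coe_subset_coe.2 le_sup_right))
  · rw [Subgroup.le_centralizer_iff, sup_le_iff]
    exact ⟨Subgroup.le_centralizer_iff.1 inf_le_left, Subgroup.le_centralizer_iff.1 inf_le_right⟩

theorem cd_mul_le (X Y : Subgroup G) : cd X * cd Y ≤ cd (X ⊓ Y) * cd (X ⊔ Y) := by
  unfold cd
  have h1 := card_mul_card_le X Y
  have h2 := card_mul_card_le (Subgroup.centralizer (X : Set G)) (Subgroup.centralizer (Y : Set G))
  rw [← centralizer_sup_eq] at h2
  have h3 : Nat.card (Subgroup.centralizer (X : Set G) ⊔ Subgroup.centralizer (Y : Set G) :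
      Subgroup G) ≤ Nat.card (Subgroup.centralizer ((X ⊓ Y : Subgroup G) : Set G)) := by
    apply Subgroup.card_le_of_le
    exact sup_le (Subgroup.centralizer_le (SetLike.coe_subset_coe.2 inf_le_left))
      (Subgroup.centralizer_le (SetLike.coe_subset_coe.2 inf_le_right))
  calc _ = (Nat.card X * Nat.card Y) * (Nat.card (Subgroup.centralizer (X : Set G)) *
        Nat.card (Subgroup.centralizer (Y : Set G))) := by ring
    _ ≤ (Nat.card (X ⊓ Y : Subgroup G) * Nat.card (X ⊔ Y : Subgroup G)) *
        (Nat.card (Subgroup.centralizer ((X ⊔ Y : Subgroup G) : Set G)) *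
          Nat.card (Subgroup.centralizer (X : Set G) ⊔ Subgroup.centralizer (Y : Set G) :
            Subgroup G)) := Nat.mul_le_mul h1 h2
    _ ≤ (Nat.card (X ⊓ Y : Subgroup G) * Nat.card (X ⊔ Y : Subgroup G)) *
        (Nat.card (Subgroup.centralizer ((X ⊔ Y : Subgroup G) : Set G)) *
          Nat.card (Subgroup.centralizer ((X ⊓ Y : Subgroup G) : Set G))) := by gcongr
    _ = _ := by ring

omit [Finite G] in
theorem cd_map (φ : G ≃* G) (X : Subgroup G) : cd (X.map φ.toMonoidHom) = cd X := by
  have h1 : ∀ Y : Subgroup G, Nat.card (Y.map φ.toMonoidHom) = Nat.card Y := fun Y =>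
    Nat.card_congr (Y.equivMapOfInjective φ.toMonoidHom φ.injective).symm.toEquiv
  have h2 : Subgroup.centralizer ((X.map φ.toMonoidHom : Subgroup G) : Set G) =
      (Subgroup.centralizer (X : Set G)).map φ.toMonoidHom := by
    ext g
    rw [Subgroup.mem_centralizer_iff, Subgroup.mem_map_equiv, Subgroup.mem_centralizer_iff]
    constructor
    · intro h x hx
      have h3 := h (φ x) ⟨x, hx, rfl⟩
      apply φ.injective
      rw [map_mul, map_mul, MulEquiv.apply_symm_apply, h3]
    · rintro h _ ⟨x, hx, rfl⟩
      have h3 := congrArg φ (h x hx)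
      rw [map_mul, map_mul, MulEquiv.apply_symm_apply] at h3
      exact h3
  unfold cd
  rw [h1, h2, h1]

theorem exists_characteristic (B : Subgroup G) (hB : ∀ a ∈ B, ∀ b ∈ B, a * b = b * a) :
    ∃ L : Subgroup G, L.Characteristic ∧ (∀ a ∈ L, ∀ b ∈ L, a * b = b * a) ∧
      L.index ≤ B.index ^ 2 := by
  classical
  have : Fintype (Subgroup G) := Fintype.ofFinite _
  obtain ⟨X₀, hX₀⟩ := Finite.exists_max (cd : Subgroup G → ℕ)
  set m := cd X₀ with hm
  have hmpos : 0 < m := by
    rw [hm]
    unfold cd
    exact Nat.mul_pos Nat.card_pos Nat.card_pos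
  obtain ⟨L, hLmem, hLmin⟩ := Set.exists_min_image {X : Subgroup G | cd X = m}
    (fun X => Nat.card X) (Set.toFinite _) ⟨X₀, rfl⟩
  have hL : cd L = m := hLmem
  have hinf : ∀ Y : Subgroup G, cd Y = m → L ≤ Y := by
    intro Y hY
    have h1 := cd_mul_le L Y
    rw [hL, hY] at h1
    have h2 : m * m ≤ cd (L ⊓ Y) * m := h1.trans (Nat.mul_le_mul_left _ (hX₀ _))
    have h3 : m ≤ cd (L ⊓ Y) := Nat.le_of_mul_le_mul_right h2 hmpos
    have h4 : cd (L ⊓ Y) = m := le_antisymm (hX₀ _) h3
    have h5 := hLmin (L ⊓ Y) h4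
    have h6 : L ⊓ Y = L := Subgroup.eq_of_le_of_card_ge inf_le_left h5
    exact inf_eq_left.1 h6
  have hLC : L ≤ Subgroup.centralizer (L : Set G) := by
    apply hinf
    apply le_antisymm (hX₀ _)
    rw [← hL]
    unfold cd
    rw [mul_comm]
    apply Nat.mul_le_mul_left
    apply Subgroup.card_le_of_le
    rw [Subgroup.le_centralizer_iff]
  refine ⟨L, ?_, fun a ha b hb => ?_, ?_⟩
  · rw [Subgroup.characteristic_iff_map_eq]
    intro φ
    have h1 : L ≤ L.map φ.toMonoidHom := hinf _ ((cd_map φ L).trans hL)
    exact (Subgroup.eq_of_le_of_card_ge h1 (le_of_eq (Nat.card_congr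
      (L.equivMapOfInjective φ.toMonoidHom φ.injective).symm.toEquiv))).symm
  · exact (Subgroup.mem_centralizer_iff.1 (hLC hb) a ha)
  · have h1 : Nat.card B * Nat.card B ≤ Nat.card L * Nat.card (Subgroup.centralizer (L : Set G)) := by
      have h2 : cd B ≤ cd L := by rw [hL]; exact hX₀ B
      refine le_trans ?_ h2
      unfold cd
      apply Nat.mul_le_mul_left
      apply Subgroup.card_le_of_le
      intro b hb
      rw [Subgroup.mem_centralizer_iff]
      intro a ha
      exact hB a ha b hb
    have h2 := L.card_mul_index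
    have h3 := (Subgroup.centralizer (L : Set G)).card_mul_index
    have h4 := B.card_mul_index
    have hBpos : 0 < Nat.card B := Nat.card_pos
    have hipos : 0 < (Subgroup.centralizer (L : Set G)).index :=
      Nat.pos_of_ne_zero Subgroup.index_ne_zero_of_finite
    have h5 : (Nat.card B * Nat.card B) * L.index ≤ (Nat.card B * Nat.card B) * B.index ^ 2 := by
      calc (Nat.card B * Nat.card B) * L.index
          ≤ (Nat.card L * Nat.card (Subgroup.centralizer (L : Set G))) * L.index :=
            Nat.mul_le_mul_right _ h1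
        _ ≤ (Nat.card L * Nat.card (Subgroup.centralizer (L : Set G))) * L.index *
            (Subgroup.centralizer (L : Set G)).index := Nat.le_mul_of_pos_right _ hipos
        _ = (Nat.card L * L.index) * (Nat.card (Subgroup.centralizer (L : Set G)) *
            (Subgroup.centralizer (L : Set G)).index) := by ring
        _ = (Nat.card B * B.index) * (Nat.card B * B.index) := by rw [h2, h3, h4]
        _ = (Nat.card B * Nat.card B) * B.index ^ 2 := by ring
    exact Nat.le_of_mul_le_mul_left h5 (by positivity)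

end Cfsg.Agent.H662.ChermakDelgado
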