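import Mathlib
set_option linter.all false

/-!
# Tensor powers of matrices

* `tp i A` : the `i`-th tensor power of a matrix;
* `exists_phi` : if `1 - π` is a trace from the identity to `⟨X⟩`, so is `1 - tp i π`;
* `finrank_span_tp_le` : tensor powers of `n × n` matrices span a space of dimension at most
  `(i + 1) ^ (n ^ 2)`.
-/

set_option autoImplicit false
open Module

namespace Cfsg.Agent.H662.TensorPow

open scoped Kronecker

variable {K : Type*} [Field K]

/-- The tensor power of a matrix. -/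
def tp {ι κ : Type*} (i : ℕ) (A : Matrix ι κ K) : Matrix (Fin i → ι) (Fin i → κ) K :=
  Matrix.of fun a b => ∏ k, A (a k) (b k)

theorem tp_apply {ι κ : Type*} (i : ℕ) (A : Matrix ι κ K) (a : Fin i → ι) (b : Fin i → κ) :
    tp i A a b = ∏ k, A (a k) (b k) := rfl

theorem tp_mul {ι κ μ : Type*} [Fintype κ] (i : ℕ) (A : Matrix ι κ K) (B : Matrix κ μ K) :
    tp i (A * B) = tp i A * tp i B := by
  classical
  ext a b
  simp only [tp_apply, Matrix.mul_apply]
  rw [Finset.prod_univ_sum, Fintype.piFinset_univ]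
  refine Finset.sum_congr rfl fun c _ => ?_
  rw [Finset.prod_mul_distrib]

theorem tp_one {ι : Type*} [DecidableEq ι] (i : ℕ) : tp i (1 : Matrix ι ι K) = 1 := by
  ext a b
  rw [tp_apply, Matrix.one_apply]
  by_cases h : a = b
  · subst h
    simp
  · rw [if_neg h]
    obtain ⟨k, hk⟩ := Function.ne_iff.1 h
    exact Finset.prod_eq_zero (Finset.mem_univ k) (by rw [Matrix.one_apply, if_neg hk])

theorem tp_pow {ι : Type*} [Fintype ι] [DecidableEq ι] (i : ℕ) (A : Matrix ι ι K) (n : ℕ) :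
    tp i (A ^ n) = tp i A ^ n := by
  induction n with
  | zero => rw [pow_zero, pow_zero, tp_one]
  | succ n ih => rw [pow_succ, pow_succ, tp_mul, ih]

/-- The tensor power of a matrix representation. -/
def tpHom {ι : Type*} [Fintype ι] [DecidableEq ι] (i : ℕ) :
    Matrix ι ι K →* Matrix (Fin i → ι) (Fin i → ι) K where
  toFun := tp i
  map_one' := tp_one i
  map_mul' := tp_mul i

@[simp]
theorem tpHom_apply {ι : Type*} [Fintype ι] [DecidableEq ι] (i : ℕ) (A : Matrix ι ι K) :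
    tpHom i A = tp i A := rfl

/-- The identification of `K^ι ⊗ (K^ι)^{⊗ i}` with `(K^ι)^{⊗ (i + 1)}`. -/
def R {ι : Type*} [Fintype ι] [DecidableEq ι] (i : ℕ) :
    Matrix (ι × (Fin i → ι)) (ι × (Fin i → ι)) K ≃ₐ[K]
      Matrix (Fin (i + 1) → ι) (Fin (i + 1) → ι) K :=
  Matrix.reindexAlgEquiv K K (Fin.consEquiv fun _ => ι)

theorem tp_succ {ι : Type*} [Fintype ι] [DecidableEq ι] (i : ℕ) (A : Matrix ι ι K) :
    tp (i + 1) A = R i (A ⊗ₖ tp i A) := by
  ext a b
  rw [tp_apply, Fin.prod_univ_succ]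
  rfl

theorem kronecker_pow {ι κ : Type*} [Fintype ι] [DecidableEq ι] [Fintype κ] [DecidableEq κ]
    (A : Matrix ι ι K) (B : Matrix κ κ K) (n : ℕ) : (A ⊗ₖ B) ^ n = (A ^ n) ⊗ₖ (B ^ n) := by
  induction n with
  | zero => simp
  | succ n ih => rw [pow_succ, pow_succ, pow_succ, ih, ← Matrix.mul_kronecker_mul]

theorem exists_phi {ι : Type*} [Fintype ι] [DecidableEq ι] {p : ℕ} {X Y φ π : Matrix ι ι K}
    (hXY : X * Y = 1) (hπ : X * π * Y = π)
    (hφ : ∑ k ∈ Finset.range p, X ^ k * φ * Y ^ k + π = 1) (i : ℕ) :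
    ∃ Φ : Matrix (Fin i → ι) (Fin i → ι) K,
      ∑ k ∈ Finset.range p, tp i X ^ k * Φ * tp i Y ^ k + tp i π = 1 := by
  have hk1 : ∀ k : ℕ, X ^ k * Y ^ k = 1 := by
    intro k
    induction k with
    | zero => simp
    | succ k ih => rw [pow_succ', pow_succ, mul_assoc, ← mul_assoc (X ^ k), ih, one_mul, hXY]
  have hk2 : ∀ k : ℕ, X ^ k * π * Y ^ k = π := by
    intro k
    induction k with
    | zero => simp
    | succ k ih =>
      rw [pow_succ', pow_succ]
      calc X * X ^ k * π * (Y ^ k * Y) = X * (X ^ k * π * Y ^ k) * Y := by simp only [mul_assoc]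
        _ = π := by rw [ih, hπ]
  induction i with
  | zero =>
    refine ⟨0, ?_⟩
    have h1 : ∀ A : Matrix ι ι K, tp 0 A = 1 := by
      intro A
      ext a b
      rw [tp_apply, Finset.univ_eq_empty, Finset.prod_empty, Subsingleton.elim a b,
        Matrix.one_apply_eq]
    simp [h1]
  | succ i ih =>
    obtain ⟨Ψ, hΨ⟩ := ih
    refine ⟨R i (φ ⊗ₖ 1 + π ⊗ₖ Ψ), ?_⟩
    have h1 : ∀ k : ℕ, tp (i + 1) X ^ k * R i (φ ⊗ₖ 1 + π ⊗ₖ Ψ) * tp (i + 1) Y ^ k =
        R i ((X ^ k * φ * Y ^ k) ⊗ₖ 1 + π ⊗ₖ (tp i X ^ k * Ψ * tp i Y ^ k)) := by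
      intro k
      rw [tp_succ, tp_succ, ← map_pow, ← map_pow, ← map_mul, ← map_mul, kronecker_pow,
        kronecker_pow, mul_add, add_mul, ← Matrix.mul_kronecker_mul, ← Matrix.mul_kronecker_mul,
        ← Matrix.mul_kronecker_mul, ← Matrix.mul_kronecker_mul, hk2, mul_one, ← tp_pow, ← tp_pow,
        ← tp_mul, hk1, tp_one]
    have h2 : (∑ k ∈ Finset.range p, X ^ k * φ * Y ^ k) = 1 - π := by
      rw [← hφ]; abel
    have h3 : (∑ k ∈ Finset.range p, tp i X ^ k * Ψ * tp i Y ^ k) = 1 - tp i π := by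
      rw [← hΨ]; abel
    have h4 : (∑ k ∈ Finset.range p, (X ^ k * φ * Y ^ k) ⊗ₖ (1 : Matrix (Fin i → ι) (Fin i → ι) K))
        = (∑ k ∈ Finset.range p, X ^ k * φ * Y ^ k) ⊗ₖ 1 := by
      ext ⟨a, a'⟩ ⟨b, b'⟩
      simp [Matrix.sum_apply, Matrix.kroneckerMap_apply, Finset.sum_mul]
    have h5 : (∑ k ∈ Finset.range p, π ⊗ₖ (tp i X ^ k * Ψ * tp i Y ^ k)) =
        π ⊗ₖ (∑ k ∈ Finset.range p, tp i X ^ k * Ψ * tp i Y ^ k) := by
      ext ⟨a, a'⟩ ⟨b, b'⟩
      simp [Matrix.sum_apply, Matrix.kroneckerMap_apply, Finset.mul_sum]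
    rw [Finset.sum_congr rfl fun k _ => h1 k, ← map_sum, Finset.sum_add_distrib, h4, h5, h2, h3,
      tp_succ, ← map_add]
    have h6 : (1 - π) ⊗ₖ (1 : Matrix (Fin i → ι) (Fin i → ι) K) + π ⊗ₖ (1 - tp i π) + π ⊗ₖ tp i π
        = 1 := by
      rw [add_assoc, ← Matrix.kronecker_add, sub_add_cancel, ← Matrix.add_kronecker, sub_add_cancel,
        Matrix.one_kronecker_one]
    rw [h6, map_one]

/-- The multiplicities of the pairs `(a k, b k)`. -/
def cnt {ι : Type*} [DecidableEq ι] {i : ℕ} (a b : Fin i → ι) : ι × ι → Fin (i + 1) := fun st =>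
  ⟨(Finset.univ.filter fun k : Fin i => (a k, b k) = st).card, by
    have := Finset.card_filter_le (Finset.univ : Finset (Fin i)) fun k : Fin i => (a k, b k) = st
    rw [Finset.card_univ, Fintype.card_fin] at this
    omega⟩

/-- A parametrization of the matrices whose entries depend on multiplicities only. -/
def Lam {ι : Type*} [DecidableEq ι] (i : ℕ) :
    ((ι × ι → Fin (i + 1)) → K) →ₗ[K] Matrix (Fin i → ι) (Fin i → ι) K where
  toFun f := Matrix.of fun a b => f (cnt a b)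
  map_add' _ _ := rfl
  map_smul' _ _ := rfl

theorem tp_mem_range_Lam {ι : Type*} [Fintype ι] [DecidableEq ι] (i : ℕ) (A : Matrix ι ι K) :
    tp i A ∈ LinearMap.range (Lam (K := K) (ι := ι) i) := by
  refine ⟨fun c => ∏ st : ι × ι, A st.1 st.2 ^ (c st : ℕ), ?_⟩
  ext a b
  rw [tp_apply]
  show ∏ st : ι × ι, A st.1 st.2 ^ (cnt a b st : ℕ) = _
  rw [← Finset.prod_fiberwise Finset.univ (fun k => (a k, b k))]
  refine Finset.prod_congr rfl fun st _ => ?_
  rw [Finset.prod_congr rfl (g := fun _ => A st.1 st.2)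
    (fun k hk => by rw [← (Finset.mem_filter.1 hk).2]), Finset.prod_const]
  rfl

theorem finrank_span_tp_le {ι : Type*} [Fintype ι] [DecidableEq ι] (i : ℕ)
    (S : Set (Matrix (Fin i → ι) (Fin i → ι) K)) (hS : ∀ B ∈ S, ∃ A : Matrix ι ι K, B = tp i A) :
    finrank K (Submodule.span K S) ≤ (i + 1) ^ (Fintype.card ι ^ 2) := by
  have h1 : Submodule.span K S ≤ LinearMap.range (Lam (K := K) (ι := ι) i) := by
    rw [Submodule.span_le]
    intro B hB
    obtain ⟨A, rfl⟩ := hS B hB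
    exact tp_mem_range_Lam i A
  have h2 := LinearMap.finrank_range_le (Lam (K := K) (ι := ι) i)
  rw [Module.finrank_fintype_fun_eq_card, Fintype.card_fun, Fintype.card_fin,
    Fintype.card_prod] at h2
  rw [sq]
  exact (Submodule.finrank_mono h1).trans h2

theorem rank_tp_le {ι κ : Type*} [Fintype ι] [Fintype κ] [DecidableEq ι] [DecidableEq κ] (i : ℕ)
    (B : Matrix ι κ K) (C : Matrix κ ι K) : (tp i (B * C)).rank ≤ Fintype.card κ ^ i := by
  rw [tp_mul]
  refine (Matrix.rank_mul_le_left _ _).trans ((Matrix.rank_le_card_width _).trans ?_)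
  rw [Fintype.card_fun, Fintype.card_fin]

/-- Factorization of a singular matrix. -/
theorem exists_factor {ι : Type*} [Fintype ι] [DecidableEq ι] (π : Matrix ι ι K) (w : ι → K)
    (hw : π.mulVec w = 0) (a₀ : ι) (ha : w a₀ ≠ 0) :
    ∃ (B : Matrix ι {a : ι // a ≠ a₀} K) (C : Matrix {a : ι // a ≠ a₀} ι K), π = B * C := by
  refine ⟨Matrix.of fun a c => π a c.1, Matrix.of fun c b =>
    (if c.1 = b then 1 else 0) - (w c.1 / w a₀) * (if a₀ = b then 1 else 0), ?_⟩
  ext a b
  have h1 : ∑ c : {c : ι // c ≠ a₀}, π a c.1 * w c.1 + π a a₀ * w a₀ = 0 := by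
    have h2 := congrFun hw a
    rw [Matrix.mulVec, dotProduct, Pi.zero_apply] at h2
    rw [← h2, ← Finset.sum_erase_add _ _ (Finset.mem_univ a₀)]
    congr 1
    rw [← Finset.sum_subtype (Finset.univ.erase a₀) (fun c => by simp) (fun c => π a c * w c)]
  rw [Matrix.mul_apply]
  simp only [Matrix.of_apply]
  by_cases hb : a₀ = b
  · subst hb
    have h3 : ∀ c : {c : ι // c ≠ a₀}, π a c.1 * ((if c.1 = a₀ then 1 else 0) -
        (w c.1 / w a₀) * (if a₀ = a₀ then 1 else 0)) = -(π a c.1 * w c.1) / w a₀ := by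
      intro c
      rw [if_neg c.2, if_pos rfl]
      ring
    rw [Finset.sum_congr rfl fun c _ => h3 c, ← Finset.sum_div, Finset.sum_neg_distrib,
      eq_div_iff ha]
    linear_combination h1
  · rw [Finset.sum_eq_single (⟨b, fun h => hb h.symm⟩ : {c : ι // c ≠ a₀})]
    · simp [hb]
    · intro c _ hc
      have : c.1 ≠ b := fun h => hc (Subtype.ext h)
      simp [this, hb]
    · intro h
      exact absurd (Finset.mem_univ _) h

theorem conj_sum {ι : Type*} [Fintype ι] [DecidableEq ι] {p : ℕ} {X Y φ : Matrix ι ι K}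
    (hX : X ^ p = 1) (hY : Y ^ p = 1) :
    X * (∑ k ∈ Finset.range p, X ^ k * φ * Y ^ k) * Y =
      ∑ k ∈ Finset.range p, X ^ k * φ * Y ^ k := by
  have h1 : X * (∑ k ∈ Finset.range p, X ^ k * φ * Y ^ k) * Y =
      ∑ k ∈ Finset.range p, X ^ (k + 1) * φ * Y ^ (k + 1) := by
    rw [Finset.mul_sum, Finset.sum_mul]
    refine Finset.sum_congr rfl fun k _ => ?_
    rw [pow_succ', pow_succ]
    simp only [mul_assoc]
  have h2 := Finset.sum_range_succ (fun k => X ^ k * φ * Y ^ k) p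
  have h3 := Finset.sum_range_succ' (fun k => X ^ k * φ * Y ^ k) p
  rw [h1]
  rw [h3, hX, hY] at h2
  simp only [pow_zero] at h2
  exact add_right_cancel h2

/-- The rank one map. -/
theorem exists_phi_base {ι : Type*} [Fintype ι] [DecidableEq ι] {p : ℕ} {X Y : Matrix ι ι K}
    (hX : X ^ p = 1) (hY : Y ^ p = 1) (hYX : Y * X = 1) (u : ι → K)
    (hu : (∑ k ∈ Finset.range p, X ^ k).mulVec u ≠ 0) :
    ∃ (a₀ : ι) (φ : Matrix ι ι K) (B : Matrix ι {a : ι // a ≠ a₀} K)
      (C : Matrix {a : ι // a ≠ a₀} ι K),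
      X * (B * C) * Y = B * C ∧ ∑ k ∈ Finset.range p, X ^ k * φ * Y ^ k + B * C = 1 := by
  set w := (∑ k ∈ Finset.range p, X ^ k).mulVec u with hw
  obtain ⟨a₀, ha₀⟩ := Function.ne_iff.1 hu
  have ha₀' : w a₀ ≠ 0 := ha₀
  set lam : ι → K := Pi.single a₀ (w a₀)⁻¹ with hlam
  have hlw : lam ⬝ᵥ w = 1 := by
    rw [hlam, single_dotProduct, inv_mul_cancel₀ ha₀']
  set φ : Matrix ι ι K := Matrix.vecMulVec u lam with hφ
  have hφw : φ.mulVec w = u := by
    ext a
    rw [hφ, Matrix.mulVec, dotProduct]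
    simp only [Matrix.vecMulVec_apply, mul_assoc]
    rw [← Finset.mul_sum]
    have : ∑ b, lam b * w b = 1 := hlw
    rw [this, mul_one]
  have hXY : X * Y = 1 := by
    rcases p with _ | p
    · simp only [Finset.range_zero, Finset.sum_empty, Matrix.zero_mulVec] at hw
      exact absurd hw hu
    · have := mul_eq_one_comm.1 hYX
      exact this
  have hXw : X.mulVec w = w := by
    rw [hw, Matrix.mulVec_mulVec]
    congr 1
    have h1 : X * (∑ k ∈ Finset.range p, X ^ k) = ∑ k ∈ Finset.range p, X ^ (k + 1) := by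
      rw [Finset.mul_sum]
      exact Finset.sum_congr rfl fun k _ => (pow_succ' _ _).symm
    have h2 := Finset.sum_range_succ (fun k => X ^ k) p
    have h3 := Finset.sum_range_succ' (fun k => X ^ k) p
    rw [h1]
    rw [h3, hX, pow_zero] at h2
    exact add_right_cancel h2
  have hYw : Y.mulVec w = w := by
    conv_lhs => rw [← hXw]
    rw [Matrix.mulVec_mulVec, hYX, Matrix.one_mulVec]
  have hYk : ∀ k : ℕ, (Y ^ k).mulVec w = w := by
    intro k
    induction k with
    | zero => simp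
    | succ k ih => rw [pow_succ, ← Matrix.mulVec_mulVec, hYw, ih]
  set T := ∑ k ∈ Finset.range p, X ^ k * φ * Y ^ k with hT
  have hTw : T.mulVec w = w := by
    rw [hT, Matrix.sum_mulVec]
    conv_rhs => rw [hw, Matrix.sum_mulVec]
    refine Finset.sum_congr rfl fun k _ => ?_
    rw [← Matrix.mulVec_mulVec, hYk, ← Matrix.mulVec_mulVec, hφw]
  obtain ⟨B, C, hBC⟩ := exists_factor (1 - T) w (by
    rw [Matrix.sub_mulVec, Matrix.one_mulVec, hTw, sub_self]) a₀ ha₀'
  refine ⟨a₀, φ, B, C, ?_, ?_⟩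
  · rw [← hBC, mul_sub, sub_mul, mul_one, hXY, hT, conj_sum hX hY]
  · rw [← hBC]
    abel

theorem sum_range_eq_sum_zmod {p : ℕ} [Fact p.Prime] {A : Type*} [AddCommMonoid A]
    (f : ZMod p → A) : ∑ k ∈ Finset.range p, f (k : ZMod p) = ∑ x : ZMod p, f x := by
  refine Finset.sum_nbij' (fun k => (k : ZMod p)) (fun x => x.val) ?_ ?_ ?_ ?_ ?_
  · intro k _
    exact Finset.mem_univ _
  · intro x _
    exact Finset.mem_range.2 (ZMod.val_lt x)
  · intro k hk
    exact ZMod.val_cast_of_lt (Finset.mem_range.1 hk)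
  · intro x _
    exact ZMod.natCast_zmod_val x
  · intro k _
    rfl

theorem sum_pow_zmod {p : ℕ} [hp : Fact p.Prime] (s : ℕ) (hs : s ≤ p - 1) :
    ∑ x : ZMod p, x ^ s = if s = p - 1 then -1 else 0 := by
  have h2 := hp.out.two_le
  split_ifs with h
  · subst h
    have h1 : ∀ x : ZMod p, x ^ (p - 1) = 1 - if x = 0 then 1 else 0 := by
      intro x
      split_ifs with hx
      · rw [hx, zero_pow (by omega), sub_self]
      · rw [ZMod.pow_card_sub_one_eq_one hx, sub_zero]
    rw [Finset.sum_congr rfl fun x _ => h1 x, Finset.sum_sub_distrib, Finset.sum_ite_eq' Finset.univ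
      (0 : ZMod p), if_pos (Finset.mem_univ _), Finset.sum_const, Finset.card_univ, ZMod.card,
      nsmul_eq_mul, CharP.cast_eq_zero, zero_mul, zero_sub]
  · have := FiniteField.sum_pow_lt_card_sub_one (ZMod p) s (by rw [ZMod.card]; omega)
    exact this

theorem sum_pow_range {p : ℕ} [hp : Fact p.Prime] [CharP K p] (s : ℕ) (hs : s ≤ p - 1) :
    ∑ k ∈ Finset.range p, (k : K) ^ s = if s = p - 1 then -1 else 0 := by
  have h1 := congrArg (ZMod.castHom (dvd_refl p) K) (sum_pow_zmod (p := p) s hs)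
  rw [← sum_range_eq_sum_zmod (fun x => x ^ s), map_sum] at h1
  simp only [map_pow, map_natCast] at h1
  rw [h1]
  split_ifs <;> simp

theorem sum_prod_add {p : ℕ} [hp : Fact p.Prime] [CharP K p] (x y : Fin (p - 1) → K) :
    ∑ k ∈ Finset.range p, ∏ j, (x j + (k : K) * y j) = -∏ j, y j := by
  have h1 : ∀ k ∈ Finset.range p, ∏ j, (x j + (k : K) * y j) =
      ∑ t ∈ Finset.univ.powerset, (k : K) ^ (Finset.univ \ t).card *
        ((∏ j ∈ t, x j) * ∏ j ∈ Finset.univ \ t, y j) := by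
    intro k _
    rw [Finset.prod_add]
    refine Finset.sum_congr rfl fun t _ => ?_
    rw [Finset.prod_mul_distrib, Finset.prod_const]
    ring
  rw [Finset.sum_congr rfl h1, Finset.sum_comm]
  have h2 : ∀ t ∈ (Finset.univ : Finset (Fin (p - 1))).powerset,
      ∑ k ∈ Finset.range p, (k : K) ^ (Finset.univ \ t).card *
        ((∏ j ∈ t, x j) * ∏ j ∈ Finset.univ \ t, y j) =
      if t = ∅ then -∏ j, y j else 0 := by
    intro t _
    have hc : (Finset.univ \ t).card ≤ p - 1 := by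
      have := Finset.card_le_univ (Finset.univ \ t)
      rwa [Fintype.card_fin] at this
    rw [← Finset.sum_mul, sum_pow_range (Finset.univ \ t).card hc]
    by_cases ht : t = ∅
    · subst ht
      simp
    · rw [if_neg ht, if_neg, zero_mul]
      intro hc'
      apply ht
      have h3 : Finset.univ \ t = Finset.univ := by
        apply Finset.eq_univ_of_card
        rw [hc', Fintype.card_fin]
      refine Finset.eq_empty_iff_forall_notMem.2 fun x hx => ?_
      have h4 := Finset.mem_univ x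
      rw [← h3] at h4
      exact (Finset.mem_sdiff.1 h4).2 hx
  rw [Finset.sum_congr rfl h2, Finset.sum_ite_eq' _ (∅ : Finset (Fin (p - 1)))]
  simp

theorem tp_mulVec {ι κ : Type*} [Fintype κ] (i : ℕ) (A : Matrix ι κ K) (v : κ → K) :
    (tp i A).mulVec (fun b => ∏ k, v (b k)) = fun a => ∏ k, A.mulVec v (a k) := by
  classical
  ext a
  simp only [Matrix.mulVec, dotProduct, tp_apply]
  rw [Finset.prod_univ_sum, Fintype.piFinset_univ]
  refine Finset.sum_congr rfl fun c _ => ?_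
  rw [Finset.prod_mul_distrib]

/-- A matrix of order `p` has a Jordan block of size two or more. -/
theorem exists_vectors {ι : Type*} [Fintype ι] [DecidableEq ι] {p : ℕ} [hp : Fact p.Prime]
    [CharP K p] {X : Matrix ι ι K} (hX : X ^ p = 1) (hX1 : X ≠ 1) :
    ∃ v u : ι → K, X.mulVec v = v + u ∧ X.mulVec u = u ∧ u ≠ 0 := by
  have hι : Nonempty ι := by
    by_contra h
    rw [not_nonempty_iff] at h
    exact hX1 (Subsingleton.elim _ _)
  have : CharP (Matrix ι ι K) p := inferInstance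
  have hy : (X - 1) ^ p = 0 := by
    rw [sub_pow_char_of_commute (p := p) (Commute.one_right _), hX, one_pow, sub_self]
  classical
  have hex : ∃ k, (X - 1) ^ k = 0 := ⟨p, hy⟩
  set k := Nat.find hex with hk
  have hk0 : (X - 1) ^ k = 0 := Nat.find_spec hex
  have hk2 : 2 ≤ k := by
    by_contra hlt
    have h3 : k = 0 ∨ k = 1 := by omega
    rcases h3 with h3 | h3
    · rw [h3, pow_zero] at hk0
      exact one_ne_zero hk0
    · rw [h3, pow_one, sub_eq_zero] at hk0
      exact hX1 hk0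
  have hk1 : (X - 1) ^ (k - 1) ≠ 0 := Nat.find_min hex (by omega)
  obtain ⟨v₀, hv₀⟩ : ∃ v₀ : ι → K, ((X - 1) ^ (k - 1)).mulVec v₀ ≠ 0 := by
    by_contra hcon
    push Not at hcon
    apply hk1
    ext a b
    have := congrFun (hcon (Pi.single b 1)) a
    simpa using this
  refine ⟨((X - 1) ^ (k - 2)).mulVec v₀, ((X - 1) ^ (k - 1)).mulVec v₀, ?_, ?_, hv₀⟩
  · have h4 : (X - 1) * (X - 1) ^ (k - 2) = (X - 1) ^ (k - 1) := by
      rw [← pow_succ']
      congr 1
      omega
    rw [← h4, ← Matrix.mulVec_mulVec, Matrix.sub_mulVec, Matrix.one_mulVec]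
    abel
  · have h4 : (X - 1) * (X - 1) ^ (k - 1) = 0 := by
      rw [← pow_succ', ← hk0]
      congr 1
      omega
    have h5 : (X - 1).mulVec (((X - 1) ^ (k - 1)).mulVec v₀) = 0 := by
      rw [Matrix.mulVec_mulVec, h4, Matrix.zero_mulVec]
    rw [Matrix.sub_mulVec, Matrix.one_mulVec, sub_eq_zero] at h5
    exact h5

/-- The tensor power of degree `p - 1` has a free summand. -/
theorem exists_free_vector {ι : Type*} [Fintype ι] [DecidableEq ι] {p : ℕ} [hp : Fact p.Prime]
    [CharP K p] {X : Matrix ι ι K} (hX : X ^ p = 1) (hX1 : X ≠ 1) :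
    ∃ u : (Fin (p - 1) → ι) → K, (∑ k ∈ Finset.range p, tp (p - 1) X ^ k).mulVec u ≠ 0 := by
  obtain ⟨v, u, hv, hu, hu0⟩ := exists_vectors hX hX1
  have hk : ∀ k : ℕ, (X ^ k).mulVec v = v + (k : K) • u := by
    intro k
    induction k with
    | zero => simp
    | succ k ih =>
      rw [pow_succ', ← Matrix.mulVec_mulVec, ih, Matrix.mulVec_add, Matrix.mulVec_smul, hv, hu]
      push_cast
      rw [add_smul, one_smul]
      abel
  refine ⟨fun b => ∏ k, v (b k), fun h => ?_⟩
  obtain ⟨a, ha⟩ := Function.ne_iff.1 hu0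
  have h1 := congrFun h (fun _ => a)
  rw [Matrix.sum_mulVec, Finset.sum_apply, Pi.zero_apply] at h1
  have h2 : ∀ k ∈ Finset.range p, (tp (p - 1) X ^ k).mulVec (fun b => ∏ k, v (b k)) (fun _ => a) =
      ∏ j : Fin (p - 1), ((fun _ => v a) j + (k : K) * (fun _ => u a) j) := by
    intro k _
    rw [← tp_pow, tp_mulVec, hk]
    rfl
  rw [Finset.sum_congr rfl h2, sum_prod_add, neg_eq_zero, Finset.prod_const] at h1
  have h3 := hp.out.two_le
  rw [Finset.card_univ, Fintype.card_fin] at h1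
  exact ha ((pow_eq_zero_iff (by omega)).1 h1)

theorem exists_growth (m s t : ℕ) (hst : s < t) : ∃ i : ℕ, (i + 1) ^ m * s ^ i < t ^ i := by
  rcases Nat.eq_zero_or_pos s with h0 | h0
  · refine ⟨1, ?_⟩
    rw [h0]
    simp
    omega
  have hs : (0 : ℝ) < s := by exact_mod_cast h0
  have ht : (0 : ℝ) < t := by exact_mod_cast h0.trans hst
  have hr : (1 : ℝ) < (t : ℝ) / s := by
    rw [one_lt_div hs]
    exact_mod_cast hst
  have h1 := tendsto_pow_const_div_const_pow_of_one_lt m hr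
  have h2 : (0 : ℝ) < ((t : ℝ) / s)⁻¹ := by positivity
  have h3 := (h1.eventually (gt_mem_nhds h2)).and (Filter.eventually_ge_atTop 1)
  obtain ⟨n, hn, hn1⟩ := h3.exists
  obtain ⟨i, rfl⟩ : ∃ i, n = i + 1 := ⟨n - 1, by omega⟩
  refine ⟨i, ?_⟩
  have hri : (0 : ℝ) < ((t : ℝ) / s) ^ (i + 1) := by positivity
  rw [div_lt_iff₀ hri, pow_succ, ← mul_assoc, mul_comm _ (((t : ℝ) / s) ^ i), mul_assoc,
    inv_mul_cancel₀ (by positivity), mul_one, div_pow, lt_div_iff₀ (by positivity)] at hn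
  exact_mod_cast hn

end Cfsg.Agent.H662.TensorPow
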